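import Cfsg.Agent.H865.L5.Base

/-!
# S5924, T0: the elements `ω` of `W(E₈)` with `ω² = -1` are conjugate (helper305)

`ω` is made equal to `w8` on the simple roots 0, 5, 7, 6 one after the other: the images of the next root are the roots with
given inner products (126, 20, 6, 1 candidates), connected by inner products 1, i.e. by reflections which fix
everything obtained before.
-/

set_option autoImplicit false
set_option linter.unusedSectionVars false

namespace Cfsg.Agent.H305.L5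

open CoxeterSystem Subgroup Cfsg Cfsg.Lie Cfsg.Lie.ChevalleyDatum
open Cfsg.Agent.ChevalleyStructure Cfsg.Agent.ChevalleyStructure.Elts Cfsg.Agent.ChevalleyStructure.CoxeterGeom
  Cfsg.Agent.ChevalleyStructure.CoxeterGeomTypes Cfsg.Agent.ChevalleyStructure.NPerm
open Cfsg.Agent.Tits.Roots Cfsg.Agent.Tits.Core Cfsg.Agent.Nodes Cfsg.Agent.Nodes.SubComb Cfsg.Agent.Nodes.Reps
  Cfsg.Agent.Nodes.BNOf Cfsg.Agent.Nodes.RGDChev Cfsg.Agent.Nodes.Bruhat Cfsg.Agent.Nodes.Coroot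
open Cfsg.Agent.H865.EE

attribute [local irreducible] w8

/-! ### the form on lists -/

/-- the form of `E₈` on lists -/
def bL : List ℤ → List ℤ → ℤ
  | [a0, a1, a2, a3, a4, a5, a6, a7], [b0, b1, b2, b3, b4, b5, b6, b7] =>
    a0 * (2 * b0 - b2) + a1 * (2 * b1 - b3) + a2 * (2 * b2 - b0 - b3) + a3 * (2 * b3 - b1 - b2 - b4) +
    a4 * (2 * b4 - b3 - b5) + a5 * (2 * b5 - b4 - b6) + a6 * (2 * b6 - b5 - b7) + a7 * (2 * b7 - b6)
  | _, _ => 0

theorem toL_eq (x : Fin 8 → ℤ) : toL x = [x 0, x 1, x 2, x 3, x 4, x 5, x 6, x 7] := by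
  unfold toL
  rfl

theorem bL_toL (x y : Fin 8 → ℤ) : bL (toL x) (toL y) = bf x y := by
  rw [toL_eq, toL_eq]
  unfold bf
  simp only [Fin.sum_univ_eight, bL]
  have h : ∀ i j, C8 i j = ![![2, 0, -1, 0, 0, 0, 0, 0], ![0, 2, 0, -1, 0, 0, 0, 0], ![-1, 0, 2, -1, 0, 0, 0, 0],
    ![0, -1, -1, 2, -1, 0, 0, 0], ![0, 0, 0, -1, 2, -1, 0, 0], ![0, 0, 0, 0, -1, 2, -1, 0], ![0, 0, 0, 0, 0, -1, 2, -1],
    ![0, 0, 0, 0, 0, 0, -1, 2]] i j := fun i j => rfl
  have h2 : ∀ i, C8 i i = 2 := by decide +kernel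
  have e : ∀ i j, (i, j) ∈ [((0 : Fin 8), (2 : Fin 8)), (1, 3), (2, 0), (2, 3), (3, 1), (3, 2), (3, 4), (4, 3), (4, 5), (5, 4),
    (5, 6), (6, 5), (6, 7), (7, 6)] → C8 i j = -1 := by decide +kernel
  have z : ∀ i j, i ≠ j → (i, j) ∉ [((0 : Fin 8), (2 : Fin 8)), (1, 3), (2, 0), (2, 3), (3, 1), (3, 2), (3, 4), (4, 3), (4, 5),
    (5, 4), (5, 6), (6, 5), (6, 7), (7, 6)] → C8 i j = 0 := by decide +kernel
  clear h
  rw [h2 0, h2 1, h2 2, h2 3, h2 4, h2 5, h2 6, h2 7, e 0 2 (by decide), e 1 3 (by decide), e 2 0 (by decide), e 2 3 (by decide),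
    e 3 1 (by decide), e 3 2 (by decide), e 3 4 (by decide), e 4 3 (by decide), e 4 5 (by decide), e 5 4 (by decide),
    e 5 6 (by decide), e 6 5 (by decide), e 6 7 (by decide), e 7 6 (by decide),
    z 0 1 (by decide) (by decide), z 0 3 (by decide) (by decide), z 0 4 (by decide) (by decide), z 0 5 (by decide) (by decide),
    z 0 6 (by decide) (by decide), z 0 7 (by decide) (by decide), z 1 0 (by decide) (by decide), z 1 2 (by decide) (by decide),
    z 1 4 (by decide) (by decide), z 1 5 (by decide) (by decide), z 1 6 (by decide) (by decide), z 1 7 (by decide) (by decide),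
    z 2 1 (by decide) (by decide), z 2 4 (by decide) (by decide), z 2 5 (by decide) (by decide), z 2 6 (by decide) (by decide),
    z 2 7 (by decide) (by decide), z 3 0 (by decide) (by decide), z 3 5 (by decide) (by decide), z 3 6 (by decide) (by decide),
    z 3 7 (by decide) (by decide), z 4 0 (by decide) (by decide), z 4 1 (by decide) (by decide), z 4 2 (by decide) (by decide),
    z 4 6 (by decide) (by decide), z 4 7 (by decide) (by decide), z 5 0 (by decide) (by decide), z 5 1 (by decide) (by decide),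
    z 5 2 (by decide) (by decide), z 5 3 (by decide) (by decide), z 5 7 (by decide) (by decide), z 6 0 (by decide) (by decide),
    z 6 1 (by decide) (by decide), z 6 2 (by decide) (by decide), z 6 3 (by decide) (by decide), z 6 4 (by decide) (by decide),
    z 7 0 (by decide) (by decide), z 7 1 (by decide) (by decide), z 7 2 (by decide) (by decide), z 7 3 (by decide) (by decide),
    z 7 4 (by decide) (by decide), z 7 5 (by decide) (by decide)]
  ring

/-! ### moving roots -/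

theorem act_inv_act (v : W8) (x : Fin 8 → ℤ) : act v⁻¹ (act v x) = x := by
  rw [← act_mul, inv_mul_cancel, act_one]

theorem act_act_inv (v : W8) (x : Fin 8 → ℤ) : act v (act v⁻¹ x) = x := by
  rw [← act_mul, mul_inv_cancel, act_one]

/-- a reflection moves `c` to `d` if their inner product is 1 -/
theorem edge_step {c d : Fin 8 → ℤ} (hc : Rt c) (hd : Rt d) (h : c = d ∨ bf c d = 1) :
    ∃ v : W8, act v c = d ∧ ∀ s, bf c s = bf d s → act v s = s := by
  rcases h with rfl | h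
  · exact ⟨1, act_one _, fun s _ => act_one s⟩
  · have hr : Rt (c - d) := by
      have h1 : Rt (act (rf d) c) := hc.act (rf d)
      rwa [act_rf hd, h, one_smul] at h1
    refine ⟨rf (c - d), ?_, fun s hs => ?_⟩
    · rw [act_rf hr, bf_sub_right, bf_self hc, h, show (2 : ℤ) - 1 = 1 by norm_num, one_smul, sub_sub_cancel]
    · rw [act_rf hr, bf_sub_right, bf_comm s c, bf_comm s d, hs, sub_self, zero_smul, sub_zero]

/-- candidates -/
def okC (rs : List (List ℤ × List ℤ)) (r c : List ℤ) : Bool :=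
  bL c r == 0 && rs.all fun p => bL c p.1 == -(bL r p.2) && bL c p.2 == bL r p.1

def edge (c d : List ℤ) : Bool := c == d || bL c d == 1

/-- a path of length at most three -/
def reach (P : List ℤ → Bool) (c t : List ℤ) : Bool :=
  edge c t || RL.any (fun d => edge c d && (P d && edge d t)) ||
    RL.any (fun d => edge c d && (P d && RL.any (fun e => edge d e && (edge e t && P e))))

def stepOK (rs : List (List ℤ × List ℤ)) (r t : List ℤ) : Bool :=
  (okC rs r t && RL.elem t) && RL.all fun c => !(okC rs r c) || reach (okC rs r) c t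

theorem exists_rt {l : List ℤ} (h : l ∈ RL) : ∃ a, Rt a ∧ toL a = l := by
  have hlen : ∀ l ∈ RL, l.length = 8 := by decide +kernel
  have h8 := hlen l h
  refine ⟨fun i => l.getD i 0, ?_, ?_⟩
  · rw [rt_iff]
    convert h
    apply List.ext_getElem
    · simp [toL, h8]
    · intro i h1 h2
      simp [toL, h2]
  · apply List.ext_getElem
    · simp [toL, h8]
    · intro i h1 h2
      simp [toL, h2]

/-- the simple roots and their images -/
abbrev Pr := (Fin 8 → ℤ) × (Fin 8 → ℤ)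

def toP (p : Pr) : List ℤ × List ℤ := (toL p.1, toL p.2)

theorem okC_iff {rs : List Pr} {r c : Fin 8 → ℤ} : okC (rs.map toP) (toL r) (toL c) = true ↔
    bf c r = 0 ∧ ∀ p ∈ rs, bf c p.1 = -bf r p.2 ∧ bf c p.2 = bf r p.1 := by
  unfold okC
  rw [Bool.and_eq_true, List.all_map, List.all_eq_true, bL_toL]
  simp only [beq_iff_eq, Function.comp_apply, toP, Bool.and_eq_true, bL_toL]

theorem edge_iff {c d : Fin 8 → ℤ} : edge (toL c) (toL d) = true ↔ c = d ∨ bf c d = 1 := by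
  unfold edge
  rw [Bool.or_eq_true, beq_iff_eq, beq_iff_eq, bL_toL]
  exact or_congr_left ⟨fun h => toL_inj h, fun h => by rw [h]⟩

theorem move {rs : List Pr} {r c t : Fin 8 → ℤ} (hc : Rt c) (ht : Rt t)
    (hcP : okC (rs.map toP) (toL r) (toL c) = true) (htP : okC (rs.map toP) (toL r) (toL t) = true)
    (h : reach (okC (rs.map toP) (toL r)) (toL c) (toL t) = true) :
    ∃ v : W8, act v c = t ∧ act v r = r ∧ ∀ p ∈ rs, act v p.1 = p.1 ∧ act v p.2 = p.2 := by
  -- one step inside the candidates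
  have one : ∀ c d : Fin 8 → ℤ, Rt c → Rt d → okC (rs.map toP) (toL r) (toL c) = true →
      okC (rs.map toP) (toL r) (toL d) = true → edge (toL c) (toL d) = true →
      ∃ v : W8, act v c = d ∧ act v r = r ∧ ∀ p ∈ rs, act v p.1 = p.1 ∧ act v p.2 = p.2 := by
    intro c d hc hd h1 h2 h3
    obtain ⟨v, hv, hv'⟩ := edge_step hc hd (edge_iff.1 h3)
    obtain ⟨a1, a2⟩ := okC_iff.1 h1
    obtain ⟨b1, b2⟩ := okC_iff.1 h2
    refine ⟨v, hv, hv' r (by rw [a1, b1]), fun p hp => ⟨hv' _ ?_, hv' _ ?_⟩⟩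
    · rw [(a2 p hp).1, (b2 p hp).1]
    · rw [(a2 p hp).2, (b2 p hp).2]
  have comp : ∀ c d e : Fin 8 → ℤ, (∃ v : W8, act v c = d ∧ act v r = r ∧ ∀ p ∈ rs, act v p.1 = p.1 ∧ act v p.2 = p.2) →
      (∃ v : W8, act v d = e ∧ act v r = r ∧ ∀ p ∈ rs, act v p.1 = p.1 ∧ act v p.2 = p.2) →
      ∃ v : W8, act v c = e ∧ act v r = r ∧ ∀ p ∈ rs, act v p.1 = p.1 ∧ act v p.2 = p.2 := by
    rintro c d e ⟨v, h1, h2, h3⟩ ⟨u, h4, h5, h6⟩
    refine ⟨u * v, by rw [act_mul, h1, h4], by rw [act_mul, h2, h5], fun p hp => ⟨?_, ?_⟩⟩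
    · rw [act_mul, (h3 p hp).1, (h6 p hp).1]
    · rw [act_mul, (h3 p hp).2, (h6 p hp).2]
  unfold reach at h
  rw [Bool.or_eq_true, Bool.or_eq_true] at h
  rcases h with (h | h) | h
  · exact one c t hc ht hcP htP h
  · obtain ⟨l, hl, h⟩ := List.any_eq_true.1 h
    obtain ⟨d, hd, rfl⟩ := exists_rt hl
    rw [Bool.and_eq_true, Bool.and_eq_true] at h
    exact comp c d t (one c d hc hd hcP h.2.1 h.1) (one d t hd ht h.2.1 htP h.2.2)
  · obtain ⟨l, hl, h⟩ := List.any_eq_true.1 h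
    obtain ⟨d, hd, rfl⟩ := exists_rt hl
    rw [Bool.and_eq_true, Bool.and_eq_true] at h
    obtain ⟨h1, h2, h3⟩ := h
    obtain ⟨l', hl', h3⟩ := List.any_eq_true.1 h3
    obtain ⟨e, he, rfl⟩ := exists_rt hl'
    rw [Bool.and_eq_true, Bool.and_eq_true] at h3
    exact comp c d t (one c d hc hd hcP h2 h1) (comp d e t (one d e hd he h2 h3.2.2 h3.1)
      (one e t he ht h3.2.2 htP h3.2.1))

/-- **one more root** -/
theorem step {rs : List Pr} (hrs : ∀ p ∈ rs, act w8 p.1 = p.2) {r t : Fin 8 → ℤ} (hr : Rt r) (hrt : act w8 r = t)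
    (hok : stepOK (rs.map toP) (toL r) (toL t) = true) {ω : W8} (h : ∀ x, act ω (act ω x) = -x)
    (hag : ∀ p ∈ rs, act ω p.1 = p.2) :
    ∃ ω' : W8, (∃ v : W8, v * ω * v⁻¹ = ω') ∧ (∀ x, act ω' (act ω' x) = -x) ∧ ∀ p ∈ (r, t) :: rs, act ω' p.1 = p.2 := by
  have hsk : ∀ x y, bf (act ω x) y = -bf x (act ω y) := by
    intro x y
    rw [← bf_act ω (act ω x) y, h, bf_neg_left]
  unfold stepOK at hok
  rw [Bool.and_eq_true, Bool.and_eq_true] at hok
  obtain ⟨⟨htP, -⟩, hall⟩ := hok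
  have ht : Rt t := by
    rw [← hrt]
    exact hr.act w8
  have hc : Rt (act ω r) := hr.act ω
  have hcP : okC (rs.map toP) (toL r) (toL (act ω r)) = true := by
    rw [okC_iff]
    refine ⟨?_, fun p hp => ⟨?_, ?_⟩⟩
    · have h1 := hsk r r
      rw [bf_comm r] at h1
      omega
    · rw [hsk, hag p hp]
    · rw [← hag p hp, bf_act]
  have h1 := List.all_eq_true.1 hall _ ((rt_iff _).1 hc)
  rw [hcP, Bool.not_true, Bool.false_or] at h1
  obtain ⟨v, hv1, hv2, hv3⟩ := move hc ht hcP htP h1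
  have hvi : ∀ x, act v x = x → act v⁻¹ x = x := fun x hx => by
    conv_lhs => rw [← hx]
    exact act_inv_act v x
  refine ⟨v * ω * v⁻¹, ⟨v, rfl⟩, fun x => ?_, fun p hp => ?_⟩
  · rw [act_mul, act_mul, act_mul, act_mul, act_inv_act, h, map_neg, act_act_inv]
  · rcases List.mem_cons.1 hp with rfl | hp
    · show act (v * ω * v⁻¹) r = t
      rw [act_mul, act_mul, hvi r hv2, hv1]
    · rw [act_mul, act_mul, hvi _ (hv3 p hp).1, hag p hp, (hv3 p hp).2]

/-! ### the four roots -/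

def r0 : Fin 8 → ℤ := ![1, 0, 0, 0, 0, 0, 0, 0]
def r5 : Fin 8 → ℤ := ![0, 0, 0, 0, 0, 1, 0, 0]
def r7 : Fin 8 → ℤ := ![0, 0, 0, 0, 0, 0, 0, 1]
def r6 : Fin 8 → ℤ := ![0, 0, 0, 0, 0, 0, 1, 0]
def t0 : Fin 8 → ℤ := ![1, 2, 2, 3, 3, 3, 2, 1]
def t5 : Fin 8 → ℤ := ![-2, -2, -3, -5, -4, -3, -2, -1]
def t7 : Fin 8 → ℤ := ![0, -1, 0, -1, 0, 0, 0, 0]
def t6 : Fin 8 → ℤ := ![2, 3, 4, 6, 4, 3, 2, 1]

theorem w_r0 : act w8 r0 = t0 := by rw [act_w8]; funext i; revert i; decide +kernel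
theorem w_r5 : act w8 r5 = t5 := by rw [act_w8]; funext i; revert i; decide +kernel
theorem w_r7 : act w8 r7 = t7 := by rw [act_w8]; funext i; revert i; decide +kernel
theorem w_r6 : act w8 r6 = t6 := by rw [act_w8]; funext i; revert i; decide +kernel

theorem rt0 : Rt r0 := (rt_iff _).2 (by decide +kernel)
theorem rt5 : Rt r5 := (rt_iff _).2 (by decide +kernel)
theorem rt7 : Rt r7 := (rt_iff _).2 (by decide +kernel)
theorem rt6 : Rt r6 := (rt_iff _).2 (by decide +kernel)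

theorem ok0 : stepOK (([] : List Pr).map toP) (toL r0) (toL t0) = true := by decide +kernel
theorem ok5 : stepOK ([(r0, t0)].map toP) (toL r5) (toL t5) = true := by decide +kernel
theorem ok7 : stepOK ([(r5, t5), (r0, t0)].map toP) (toL r7) (toL t7) = true := by decide +kernel
theorem ok6 : stepOK ([(r7, t7), (r5, t5), (r0, t0)].map toP) (toL r6) (toL t6) = true := by decide +kernel

/-- coordinates with respect to `r0, t0, r5, t5, r7, t7, r6, t6` (times 5) -/
def cf : Fin 8 → Fin 8 → ℤ :=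
  ![![5, 0, 0, 0, 0, 0, 0, 0], ![2, 4, -3, 4, -1, -2, -2, 1], ![0, 0, 0, 5, 0, 5, 0, 5], ![-2, -4, 3, -4, 1, -3, 2, -1],
    ![-1, 3, -6, -2, -2, 1, -4, -3], ![0, 0, 5, 0, 0, 0, 0, 0], ![0, 0, 0, 0, 0, 0, 5, 0], ![0, 0, 0, 0, 5, 0, 0, 0]]

theorem five_smul (j : Fin 8) : (5 : ℤ) • (sr j : Fin 8 → ℤ) = cf j 0 • r0 + cf j 1 • t0 + cf j 2 • r5 + cf j 3 • t5 +
    cf j 4 • r7 + cf j 5 • t7 + cf j 6 • r6 + cf j 7 • t6 := by
  funext i
  revert i j
  decide +kernel

theorem eq_w8 {ω : W8} (h : ∀ x, act ω (act ω x) = -x) (h0 : act ω r0 = t0) (h5 : act ω r5 = t5) (h7 : act ω r7 = t7)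
    (h6 : act ω r6 = t6) : ω = w8 := by
  have hs : ∀ j, act ω (sr j) = act w8 (sr j) := by
    intro j
    have key : ∀ u : W8, (∀ x, act u (act u x) = -x) → act u r0 = t0 → act u r5 = t5 → act u r7 = t7 → act u r6 = t6 →
        (5 : ℤ) • act u (sr j) = cf j 0 • t0 + cf j 1 • (-r0) + cf j 2 • t5 + cf j 3 • (-r5) +
          cf j 4 • t7 + cf j 5 • (-r7) + cf j 6 • t6 + cf j 7 • (-r6) := by
      intro u h h0 h5 h7 h6
      have a0 : act u t0 = -r0 := by rw [← h0, h]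
      have a5 : act u t5 = -r5 := by rw [← h5, h]
      have a7 : act u t7 = -r7 := by rw [← h7, h]
      have a6 : act u t6 = -r6 := by rw [← h6, h]
      rw [← map_smul, five_smul]
      simp only [map_add, map_smul, h0, h5, h7, h6, a0, a5, a7, a6]
    have h1 := (key ω h h0 h5 h7 h6).trans (key w8 w8_sq w_r0 w_r5 w_r7 w_r6).symm
    funext i
    have h2 := congrFun h1 i
    simp only [Pi.smul_apply, smul_eq_mul] at h2
    omega
  refine act_ext fun x => ?_
  have h1 : x = ∑ j, x j • (sr j : Fin 8 → ℤ) := by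
    funext i
    rw [Finset.sum_apply, Finset.sum_eq_single i (fun j _ hj => by
      rw [Pi.smul_apply, sr_ne hj.symm, smul_zero]) (fun h => absurd (Finset.mem_univ i) h), Pi.smul_apply, sr_self,
      smul_eq_mul, mul_one]
  rw [h1, map_sum, map_sum]
  exact Finset.sum_congr rfl fun j _ => by rw [map_smul, map_smul, hs]

/-- **T0** -/
theorem conj_w8 {ω : W8} (h : ∀ x, act ω (act ω x) = -x) : ∃ v : W8, v * ω * v⁻¹ = w8 := by
  obtain ⟨ω₁, ⟨v₁, e₁⟩, hh₁, ha₁⟩ := step (rs := []) (by simp) rt0 w_r0 ok0 h (by simp)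
  obtain ⟨ω₂, ⟨v₂, e₂⟩, hh₂, ha₂⟩ := step (rs := [(r0, t0)]) (by simp [w_r0]) rt5 w_r5 ok5 hh₁ ha₁
  obtain ⟨ω₃, ⟨v₃, e₃⟩, hh₃, ha₃⟩ := step (rs := [(r5, t5), (r0, t0)]) (by simp [w_r0, w_r5]) rt7 w_r7 ok7 hh₂ ha₂
  obtain ⟨ω₄, ⟨v₄, e₄⟩, hh₄, ha₄⟩ := step (rs := [(r7, t7), (r5, t5), (r0, t0)]) (by simp [w_r0, w_r5, w_r7]) rt6 w_r6 ok6
    hh₃ ha₃
  have h4 : ω₄ = w8 := eq_w8 hh₄ (ha₄ (r0, t0) (by simp)) (ha₄ (r5, t5) (by simp)) (ha₄ (r7, t7) (by simp))
    (ha₄ (r6, t6) (by simp))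
  refine ⟨v₄ * v₃ * v₂ * v₁, ?_⟩
  rw [← h4, ← e₄, ← e₃, ← e₂, ← e₁]
  group

end Cfsg.Agent.H305.L5
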