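import Cfsg.Agent.H865.L5.Reg
import Cfsg.Agent.H136.L5.Lines

/-!
# S5924, piece U1c: the regular toral groups `f VP` are conjugate in `GT` (helper305)

`conj_VP_of` : from the representatives of `CW` in `GT k` (piece A6).
-/

set_option autoImplicit false
set_option linter.unusedSectionVars false

namespace Cfsg.Agent.H305.L5

open CoxeterSystem Subgroup Cfsg Cfsg.Lie Cfsg.Lie.ChevalleyDatum
open Cfsg.Agent.ChevalleyStructure Cfsg.Agent.ChevalleyStructure.Elts Cfsg.Agent.ChevalleyStructure.CoxeterGeom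
  Cfsg.Agent.ChevalleyStructure.CoxeterGeomTypes Cfsg.Agent.ChevalleyStructure.NPerm
open Cfsg.Agent.Tits.Roots Cfsg.Agent.Tits.Core Cfsg.Agent.Nodes Cfsg.Agent.Nodes.SubComb Cfsg.Agent.Nodes.Reps
  Cfsg.Agent.Nodes.BNOf Cfsg.Agent.Nodes.RGDChev Cfsg.Agent.Nodes.Bruhat Cfsg.Agent.Nodes.Coroot
open Cfsg.Agent.KFacts.RgdField Cfsg.Agent.KFacts.RgdChevCoord Cfsg.Agent.BpExc.TorCent Cfsg.Agent.BpExc.TorChev
open Cfsg.Agent.GpExc.Field Cfsg.Agent.BpExc.Tow Cfsg.Agent.BpExc.TowChev Cfsg.Agent.BpExc.Fr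
  Cfsg.Agent.BpExc.LangFr Cfsg.Agent.BpExc.FamField Cfsg.Agent.BpExc.FamInst Cfsg.Agent.H129.TorusChar
  Cfsg.Agent.H795.LangT Cfsg.Agent.BpExc.FamExt Cfsg.Agent.BpExc.FamUntw Cfsg.Agent.H378.TorDual Cfsg.Agent.H378.TorChar
  Cfsg.Agent.H378.TorFin Cfsg.Agent.H378.RankOne Cfsg.Agent.H378.RootTor Cfsg.Agent.H865.EE
open Cfsg.Agent.H865.L5

attribute [local irreducible] w8

section

variable {k : Type} [Field k] [CharP k 3] [IsAlgClosed k] [PerfectRing k 3]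

/-- the plane of functionals attached to `f VP` -/
theorem exists_plane {f : SL35 →* ↥(chevE8.group k)} (hf : Function.Injective f) (hT : ∀ s ∈ VP, f s ∈ T5 k)
    {e : Module.Dual (ZMod 5) (Fin 4 → ZMod 5) → ↥(chevE8.group k)} (he : ∀ t, t ∈ T5 k ↔ ∃ φ, e φ = t) (h0 : e 0 = 1)
    (ha : ∀ φ ψ, e (φ + ψ) = e φ * e ψ) (hsm : ∀ (c : ZMod 5) φ, e (c • φ) = e φ ^ c.val) :
    ∃ Φ : Submodule (ZMod 5) (Module.Dual (ZMod 5) (Fin 4 → ZMod 5)), Module.finrank (ZMod 5) Φ = 2 ∧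
      (∀ ψ ∈ Φ, ∃ s ∈ VP, f s = e ψ) ∧ ∀ s ∈ VP, ∃ ψ ∈ Φ, e ψ = f s := by
  obtain ⟨φ₁, h1⟩ := (he _).1 (hT (vp 1 0) ⟨1, 0, rfl⟩)
  obtain ⟨φ₂, h2⟩ := (he _).1 (hT (vp 0 1) ⟨0, 1, rfl⟩)
  have key : ∀ a b : ZMod 5, e (a • φ₁ + b • φ₂) = f (vp a b) := by
    intro a b
    rw [ha, hsm, hsm, h1, h2, ← map_pow, ← map_pow, vp_pow, vp_pow, ← map_mul, vp_mul, ZMod.natCast_zmod_val,
      ZMod.natCast_zmod_val, mul_one, mul_zero, mul_zero, mul_one, add_zero, zero_add]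
  have hli : LinearIndependent (ZMod 5) ![φ₁, φ₂] := by
    rw [LinearIndependent.pair_iff]
    intro a b hab
    have h3 := key a b
    rw [hab, h0, ← map_one f, ← vp_zero] at h3
    obtain ⟨h4, h5⟩ := vp_inj (hf h3)
    exact ⟨h4.symm, h5.symm⟩
  refine ⟨Submodule.span (ZMod 5) {φ₁, φ₂}, ?_, ?_, ?_⟩
  · have h3 := finrank_span_eq_card hli
    rw [Matrix.range_cons, Matrix.range_cons, Matrix.range_empty, Set.union_empty, Set.singleton_union,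
      Fintype.card_fin] at h3
    exact h3
  · intro ψ hψ
    obtain ⟨a, b, rfl⟩ := Submodule.mem_span_pair.1 hψ
    exact ⟨vp a b, ⟨a, b, rfl⟩, (key a b).symm⟩
  · rintro _ ⟨a, b, rfl⟩
    exact ⟨_, Submodule.mem_span_pair.2 ⟨a, b, rfl⟩, key a b⟩

/-- **U1c** -/
theorem conj_VP_of (hk : LocFin k)
    (A6 : ∀ {v : W8}, v ∈ CW → ∃ y ∈ GT k, Rp cs8 (nsysL tp8 cs8 hk 3) v y) {f f' : SL35 →* ↥(chevE8.group k)}
    (hf : Function.Injective f) (hT : ∀ s ∈ VP, f s ∈ T5 k) (hreg : Reg (f '' VP))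
    (hf' : Function.Injective f') (hT' : ∀ s ∈ VP, f' s ∈ T5 k) (hreg' : Reg (f' '' VP)) :
    ∃ g ∈ GT k, ∀ s ∈ VP, ∃ s' ∈ VP, f' s = g * f s' * g⁻¹ := by
  obtain ⟨ζ, hζ⟩ := exists_zeta3 k
  obtain ⟨e, hi, he, h0, ha, hsm, hch⟩ := exists_iso' hk hζ
  have plane : ∀ {f : SL35 →* ↥(chevE8.group k)}, Function.Injective f → (∀ s ∈ VP, f s ∈ T5 k) → Reg (f '' VP) →
      ∃ Φ : Submodule (ZMod 5) (Module.Dual (ZMod 5) (Fin 4 → ZMod 5)),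
        Module.finrank (ZMod 5) Φ.dualCoannihilator = 2 ∧ (∀ ψ ∈ Φ, ∃ s ∈ VP, f s = e ψ) ∧
        (∀ s ∈ VP, ∃ ψ ∈ Φ, e ψ = f s) ∧ ∀ a, Rt a → PP a ∉ Φ.dualCoannihilator := by
    intro f hf hT hreg
    obtain ⟨Φ, hΦ, h1, h2⟩ := exists_plane hf hT he h0 ha hsm
    refine ⟨Φ, ?_, h1, h2, fun a haa hin => ?_⟩
    · have h3 := Subspace.finrank_add_finrank_dualCoannihilator_eq Φ
      rw [hΦ, Module.finrank_fin_fun] at h3
      omega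
    · obtain ⟨_, ⟨s, hs, rfl⟩, hne⟩ := hreg a haa
      obtain ⟨ψ, hψ, h3⟩ := h2 s hs
      apply hne
      rw [← h3, hch, (Submodule.mem_dualCoannihilator _).1 hin ψ hψ, ZMod.val_zero, pow_zero]
  obtain ⟨Φ, hA, h1, -, hreg₁⟩ := plane hf hT hreg
  obtain ⟨Ψ, hB, -, h2', hreg₂⟩ := plane hf' hT' hreg'
  obtain ⟨v, hv, hvx⟩ := Cfsg.Agent.H136.L5.trans_reg _ _ hA hB hreg₁ hreg₂
  obtain ⟨y, hy, hyr⟩ := A6 hv
  refine ⟨y, hy, fun s hs => ?_⟩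
  obtain ⟨ψ, hψ, h3⟩ := h2' s hs
  -- `t = y⁻¹ (f' s) y`
  have hinv : Rp cs8 (nsysL tp8 cs8 hk 3) v⁻¹ y⁻¹ := hyr.inv
  have ht : y⁻¹ * f' s * y ∈ T5 k := by
    have h5 := hT' s hs
    refine ⟨⟨?_, ?_⟩, ?_⟩
    · have h6 := (Subgroup.mem_normalizer_iff.1 hinv.mem_normalizer (f' s)).1 h5.1.1
      rwa [inv_inv] at h6
    · have hg : y⁻¹ ∈ GT k := inv_mem hy
      exact mul_mem (mul_mem hg h5.1.2) hy
    · have h6 := conj_pow (i := 5) (a := y⁻¹) (b := f' s)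
      rw [inv_inv] at h6
      rw [h6, h5.2, mul_one, inv_mul_cancel]
  obtain ⟨φ, hφ⟩ := (he _).1 ht
  have hrel : ∀ x, φ (PP x) = ψ (PP (act v x)) := by
    intro x
    apply zval_inj hζ
    have h6 := cX_rp tp8 cs8 hk 3 hyr (T5_TT ht) x
    have h7 : y * (y⁻¹ * f' s * y) * y⁻¹ = f' s := by group
    rw [h7, ← hφ, ← h3, hch, hch] at h6
    exact h6.symm
  have hin : φ ∈ Φ := by
    rw [← Subspace.dualCoannihilator_dualAnnihilator_eq (W := Φ), Submodule.mem_dualAnnihilator]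
    intro c hc
    obtain ⟨x, rfl⟩ := PP_surj c
    rw [hrel]
    exact (Submodule.mem_dualCoannihilator _).1 ((hvx x).1 hc) ψ hψ
  obtain ⟨s', hs', h4⟩ := h1 φ hin
  refine ⟨s', hs', ?_⟩
  rw [h4, hφ]
  group

end

end Cfsg.Agent.H305.L5
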